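import Cfsg.Agent.H13.Sink.Stmts
import Cfsg.Agent.CompLayer
import Cfsg.Agent.H36.Subnormal

/-!
A minimal counterexample with nilpotent pairs would give a finite tree without end vertices.
-/

set_option autoImplicit false
set_option linter.style.haveILetI false

namespace H70.Sink

open Cfsg Cfsg.Comp H13.Sink Subgroup
open scoped Pointwise

universe u

variable {G : Type u} [Group G]

theorem mem_map_conj {g x : G} {P : Subgroup G} :
    x ∈ P.map (MulAut.conj g).toMonoidHom ↔ g⁻¹ * x * g ∈ P := by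
  refine ⟨?_, fun h => ⟨g⁻¹ * x * g, h, ?_⟩⟩
  · rintro ⟨y, hy, rfl⟩
    simpa [mul_assoc] using hy
  · show g * (g⁻¹ * x * g) * g⁻¹ = x
    group

theorem map_conj_eq_of_mem {g : G} {P : Subgroup G} (hg : g ∈ P) :
    P.map (MulAut.conj g).toMonoidHom = P := by
  ext x
  rw [mem_map_conj]
  refine ⟨fun hx => ?_, fun hx => mul_mem (mul_mem (inv_mem hg) hx) hg⟩
  have := mul_mem (mul_mem hg hx) (inv_mem hg)
  rwa [show g * (g⁻¹ * x * g) * g⁻¹ = x by group] at this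

theorem map_conj_conj (g h : G) (P : Subgroup G) :
    (P.map (MulAut.conj h).toMonoidHom).map (MulAut.conj g).toMonoidHom
      = P.map (MulAut.conj (g * h)).toMonoidHom := by
  ext x
  simp only [mem_map_conj]
  rw [show h⁻¹ * (g⁻¹ * x * g) * h = (g * h)⁻¹ * x * (g * h) by group]

theorem map_conj_inj {g : G} {P Q : Subgroup G}
    (h : P.map (MulAut.conj g).toMonoidHom = Q.map (MulAut.conj g).toMonoidHom) : P = Q :=
  map_injective (MulAut.conj g).injective h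

/-- A subgroup of a nilpotent subgroup is nilpotent. -/
theorem nilp_mono {A B : Subgroup G} (h : A ≤ B) (hB : Group.IsNilpotent ↥B) :
    Group.IsNilpotent ↥A :=
  Group.nilpotent_of_mulEquiv (subgroupOfEquivOfLe h)

theorem nilp_map {A : Subgroup G} (hA : Group.IsNilpotent ↥A) (g : G) :
    Group.IsNilpotent ↥(A.map (MulAut.conj g).toMonoidHom) :=
  Group.nilpotent_of_mulEquiv
    (A.equivMapOfInjective (MulAut.conj g).toMonoidHom (MulAut.conj g).injective)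

/-- `F` and a nilpotent group normalising it generate a nilpotent group, if `F` does so with each
generator of the latter. -/
theorem nilp_sup [Finite G] {F : Subgroup G} {Φ : Set G} (hF : Group.IsNilpotent ↥F)
    (hΦ : Group.IsNilpotent ↥(closure Φ)) (hn : Φ ⊆ (normalizer (F : Set G) : Set G))
    (h : ∀ x ∈ Φ, Group.IsNilpotent ↥(F ⊔ zpowers x)) :
    Group.IsNilpotent ↥(F ⊔ closure Φ) := by
  set H := closure Φ with hH
  set Q := F ⊔ H with hQ
  have hHn : H ≤ normalizer (F : Set G) := (closure_le _).mpr hn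
  haveI hFn : (F.subgroupOf Q).Normal :=
    normal_subgroupOf_of_le_normalizer (sup_le le_normalizer hHn)
  set f := QuotientGroup.mk' (F.subgroupOf Q)
  let g : ↥H →* ↥Q ⧸ F.subgroupOf Q := f.comp (inclusion le_sup_right)
  have hg : Function.Surjective g := by
    intro z
    obtain ⟨⟨q, hq⟩, rfl⟩ := QuotientGroup.mk'_surjective _ z
    have hq' : q ∈ (H : Set G) * (F : Set G) := by
      rw [← coe_mul_of_left_le_normalizer_right H F hHn, sup_comm]
      exact hq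
    obtain ⟨a, ha, b, hb, rfl⟩ := hq'
    refine ⟨⟨a, ha⟩, ?_⟩
    show f ⟨a, _⟩ = f ⟨a * b, _⟩
    refine (QuotientGroup.eq.mpr ?_)
    rw [mem_subgroupOf]
    show a⁻¹ * (a * b) ∈ F
    rw [inv_mul_cancel_left]
    exact hb
  haveI := hΦ
  haveI : Group.IsNilpotent (↥Q ⧸ F.subgroupOf Q) := Group.nilpotent_of_surjective g hg
  have hsn : ∀ A : Subgroup ↥Q, F.subgroupOf Q ≤ A → A.IsSubnormal := by
    intro A hA
    have := (H36.isSubnormal_of_isNilpotent (A.map f)).comap f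
    rwa [comap_map_eq, QuotientGroup.ker_mk', sup_eq_left.mpr hA] at this
  have hle : ∀ x ∈ Φ, ∀ hx : x ∈ Q, (⟨x, hx⟩ : ↥Q) ∈ fittingSubgroup ↥Q := by
    intro x hx hxQ
    have hA : F ⊔ zpowers x ≤ Q := sup_le le_sup_left (zpowers_le.mpr hxQ)
    haveI := h x hx
    refine le_fitting_of_subnormal (N := (F ⊔ zpowers x).subgroupOf Q)
      (hsn _ fun a ha => mem_subgroupOf.mpr (le_sup_left (a := F) (mem_subgroupOf.mp ha)))
      (Group.nilpotent_of_mulEquiv (subgroupOfEquivOfLe hA).symm)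
      (mem_subgroupOf.mpr (mem_sup_right (mem_zpowers x)))
  haveI := hF
  have hFle : F.subgroupOf Q ≤ fittingSubgroup ↥Q :=
    le_fittingSubgroup hFn (Group.nilpotent_of_mulEquiv (subgroupOfEquivOfLe le_sup_left).symm)
  have htop : fittingSubgroup ↥Q = ⊤ := by
    refine top_unique fun q _ => ?_
    have h1 : Q ≤ (fittingSubgroup ↥Q).map Q.subtype := by
      refine sup_le (fun a ha => ⟨⟨a, mem_sup_left ha⟩, hFle (mem_subgroupOf.mpr ha), rfl⟩)
        ((closure_le _).mpr fun x hx => ?_)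
      exact ⟨⟨x, mem_sup_right (subset_closure hx)⟩, hle x hx _, rfl⟩
    obtain ⟨q', hq', e⟩ := h1 q.2
    rwa [show q' = q from Subtype.ext e] at hq'
  have hnQ := fitting_isNilpotent (G := ↥Q)
  rw [htop] at hnQ
  haveI := hnQ
  exact Group.nilpotent_of_mulEquiv topEquiv

variable (S : Sys G)

/-- The cells. -/
def IsCell (a : Subgroup G) : Prop := ∃ d ∈ S.K, S.M d = a

/-- The members of the class attached to `a`. -/
def cell (a : Subgroup G) : Set G := {d | d ∈ S.K ∧ S.M d = a}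

/-- A set of members generating a nilpotent subgroup. -/
def Nil (Φ : Set G) : Prop := Φ ⊆ S.K ∧ Group.IsNilpotent ↥(closure Φ)

/-- Maximal nilpotent traces of a cell. -/
def Psi (a : Subgroup G) : Set (Set G) :=
  {Φ | Φ ⊆ a ∧ Nil S Φ ∧ ∀ X : Set G, X ⊆ a → Nil S X → Φ ⊆ X → X ⊆ Φ}

/-- Conjugate of a set. -/
def cj (g : G) (Φ : Set G) : Set G := (fun x => g * x * g⁻¹) '' Φ

theorem mem_cj {g x : G} {Φ : Set G} : x ∈ cj g Φ ↔ g⁻¹ * x * g ∈ Φ := by
  refine ⟨?_, fun h => ⟨g⁻¹ * x * g, h, by group⟩⟩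
  rintro ⟨y, hy, rfl⟩
  simpa [mul_assoc] using hy

theorem conj_K_iff {g x : G} : g⁻¹ * x * g ∈ S.K ↔ x ∈ S.K := by
  refine ⟨fun h => ?_, fun h => by simpa using S.conj_mem x h g⁻¹⟩
  have := S.conj_mem _ h g
  rwa [show g * (g⁻¹ * x * g) * g⁻¹ = x by group] at this

theorem closure_cj (g : G) (Φ : Set G) :
    closure (cj g Φ) = (closure Φ).map (MulAut.conj g).toMonoidHom := by
  rw [MonoidHom.map_closure]
  congr 1

theorem nil_cj {Φ : Set G} (h : Nil S Φ) (g : G) : Nil S (cj g Φ) := by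
  refine ⟨fun x hx => (conj_K_iff S).mp (h.1 (mem_cj.mp hx)), ?_⟩
  rw [closure_cj]
  exact nilp_map h.2 g

theorem cj_cj (g h : G) (Φ : Set G) : cj g (cj h Φ) = cj (g * h) Φ := by
  ext x
  simp only [mem_cj]
  rw [show h⁻¹ * (g⁻¹ * x * g) * h = (g * h)⁻¹ * x * (g * h) by group]

theorem cj_one (Φ : Set G) : cj 1 Φ = Φ := by
  ext x
  simp [mem_cj]

theorem isCell_conj {a : Subgroup G} (ha : IsCell S a) (g : G) :
    IsCell S (a.map (MulAut.conj g).toMonoidHom) := by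
  obtain ⟨d, hd, rfl⟩ := ha
  exact ⟨g * d * g⁻¹, S.conj_mem d hd g, S.conj_M d hd g⟩

theorem cell_normalizer {a : Subgroup G} (ha : IsCell S a) {g : G}
    (h : a.map (MulAut.conj g).toMonoidHom = a) : g ∈ a := by
  obtain ⟨d, hd, rfl⟩ := ha
  exact S.self_norm d hd ▸ mem_normalizer_of_map_conj_eq h

theorem cell_trans {a b : Subgroup G} (ha : IsCell S a) (hb : IsCell S b) :
    ∃ g : G, a.map (MulAut.conj g).toMonoidHom = b := by
  obtain ⟨d, hd, rfl⟩ := ha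
  obtain ⟨e, he, rfl⟩ := hb
  obtain ⟨g, rfl⟩ := S.trans d hd e he
  exact ⟨g, (S.conj_M d hd g).symm⟩

theorem psi_conj {a : Subgroup G} {Φ : Set G} (h : Φ ∈ Psi S a) (g : G) :
    cj g Φ ∈ Psi S (a.map (MulAut.conj g).toMonoidHom) := by
  refine ⟨fun x hx => mem_map_conj.mpr (h.1 (mem_cj.mp hx)), nil_cj S h.2.1 g, fun X hX hN hsub => ?_⟩
  have h1 : cj g⁻¹ X ⊆ Φ := by
    refine h.2.2 _ (fun x hx => ?_) (nil_cj S hN _) (fun x hx => ?_)
    · rw [mem_cj, inv_inv] at hx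
      have := mem_map_conj.mp (hX hx)
      rwa [show g⁻¹ * (g * x * g⁻¹) * g = x by group] at this
    · rw [mem_cj, inv_inv]
      exact hsub ⟨x, hx, rfl⟩
  intro x hx
  rw [mem_cj]
  refine h1 ?_
  rw [mem_cj, inv_inv, show g * (g⁻¹ * x * g) * g⁻¹ = x by group]
  exact hx

/-- A trace contains the members lying in the subgroup it generates. -/
theorem psi_closed {a : Subgroup G} {Φ : Set G} (h : Φ ∈ Psi S a) {x : G}
    (hx : x ∈ closure Φ) (hK : x ∈ S.K) : x ∈ Φ := by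
  refine h.2.2 (insert x Φ) ?_ ⟨Set.insert_subset hK h.2.1.1, ?_⟩ (Set.subset_insert _ _)
    (Set.mem_insert _ _)
  · exact Set.insert_subset ((closure_le a).mpr h.1 hx) h.1
  · exact nilp_mono ((closure_le _).mpr (Set.insert_subset hx subset_closure)) h.2.1.2

/-- Elements of a nilpotent set act on it. -/
theorem psi_conj_closed {a : Subgroup G} {Φ : Set G} (h : Φ ∈ Psi S a) {g x : G}
    (hg : g ∈ closure Φ) (hx : x ∈ Φ) : g * x * g⁻¹ ∈ Φ :=
  psi_closed S h (mul_mem (mul_mem hg (subset_closure hx)) (inv_mem hg))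
    (S.conj_mem x (h.2.1.1 hx) g)

variable [Finite G]

theorem exists_psi {a : Subgroup G} {X : Set G} (hX : X ⊆ a) (hN : Nil S X) :
    ∃ Φ ∈ Psi S a, X ⊆ Φ := by
  obtain ⟨Φ, ⟨h1, h2, h3⟩, hm⟩ := ({Φ : Set G | Φ ⊆ a ∧ Nil S Φ ∧ X ⊆ Φ} : Set _).toFinite
    |>.exists_maximalFor (fun Φ => Φ) _ ⟨X, hX, hN, subset_rfl⟩
  exact ⟨Φ, ⟨h1, h2, fun Y hY hNY hsub => hm ⟨hY, hNY, h3.trans hsub⟩ hsub⟩, h3⟩

theorem fitOf_normal (a : Subgroup G) : a ≤ normalizer (fitOf a : Set G) := by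
  intro g hg
  refine mem_normalizer_of_map_conj_eq (le_antisymm ?_ ?_)
  · rintro _ ⟨_, ⟨x, hx, rfl⟩, rfl⟩
    exact ⟨⟨g, hg⟩ * x * ⟨g, hg⟩⁻¹,
      (inferInstance : (fittingSubgroup ↥a).Normal).conj_mem x hx _, rfl⟩
  · rintro _ ⟨x, hx, rfl⟩
    refine mem_map_conj.mpr ⟨⟨g, hg⟩⁻¹ * x * ⟨g, hg⟩, ?_, rfl⟩
    have := (inferInstance : (fittingSubgroup ↥a).Normal).conj_mem x hx ⟨g, hg⟩⁻¹
    rwa [inv_inv] at this

theorem fitOf_nilpotent (a : Subgroup G) : Group.IsNilpotent ↥(fitOf a) := by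
  haveI := fitting_isNilpotent (G := ↥a)
  exact Group.nilpotent_of_mulEquiv ((fittingSubgroup ↥a).equivMapOfInjective a.subtype a.subtype_injective)

variable (hForeign : S.Foreign) (hSelf : S.Self) (hJoin : S.Join) (hPair : S.Pair)

include hForeign hJoin in
/-- A trace contains every foreign member of its cell. -/
theorem foreign_mem {a : Subgroup G} (ha : IsCell S a) {Φ : Set G} (h : Φ ∈ Psi S a) {y : G}
    (hy : y ∈ S.K) (hya : y ∈ a) (hne : S.M y ≠ a) : y ∈ Φ := by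
  obtain ⟨f, hf, rfl⟩ := ha
  set F := fitOf (S.M f)
  have hyF : y ∈ F := hForeign y hy f hf hya hne
  have hFn := fitOf_nilpotent (S.M f)
  have hN : Group.IsNilpotent ↥(F ⊔ closure Φ) := by
    refine nilp_sup hFn h.2.1.2 (fun x hx => fitOf_normal _ (h.1 hx)) fun x hx => ?_
    by_cases hxc : S.M x = S.M f
    · have := hJoin x (h.2.1.1 hx)
      rwa [hxc] at this
    · exact nilp_mono (sup_le le_rfl (zpowers_le.mpr (hForeign x (h.2.1.1 hx) f hf (h.1 hx) hxc))) hFn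
  refine h.2.2 (insert y Φ) (Set.insert_subset hya h.1)
    ⟨Set.insert_subset hy h.2.1.1, ?_⟩ (Set.subset_insert _ _) (Set.mem_insert _ _)
  exact nilp_mono ((closure_le _).mpr (Set.insert_subset (mem_sup_left hyF)
    fun x hx => mem_sup_right (subset_closure hx))) hN

include hForeign hJoin in
theorem psi_inter_cell {a y : Subgroup G} (ha : IsCell S a) (hy : y ≠ a)
    {Φ : Set G} (h : Φ ∈ Psi S a) : Φ ∩ cell S y = {b | b ∈ a ∧ b ∈ cell S y} := by
  ext b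
  refine ⟨fun hb => ⟨h.1 hb.1, hb.2⟩, fun hb => ⟨?_, hb.2⟩⟩
  refine foreign_mem S hForeign hJoin ha h hb.2.1 hb.1 ?_
  rw [hb.2.2]
  exact hy

include hForeign hJoin in
theorem psi_eq_of_inter_cell {a : Subgroup G} (ha : IsCell S a) {Φ Φ' : Set G}
    (h : Φ ∈ Psi S a) (h' : Φ' ∈ Psi S a) (e : Φ ∩ cell S a = Φ' ∩ cell S a) : Φ = Φ' := by
  ext b
  by_cases hy : S.M b = a
  · constructor
    · intro hb
      have : b ∈ Φ' ∩ cell S a := e ▸ ⟨hb, h.2.1.1 hb, hy⟩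
      exact this.1
    · intro hb
      have : b ∈ Φ ∩ cell S a := e.symm ▸ ⟨hb, h'.2.1.1 hb, hy⟩
      exact this.1
  · exact ⟨fun hb => foreign_mem S hForeign hJoin ha h' (h.2.1.1 hb) (h.1 hb) hy,
      fun hb => foreign_mem S hForeign hJoin ha h (h'.2.1.1 hb) (h'.1 hb) hy⟩

theorem one_notMem_K : (1 : G) ∉ S.K := by
  intro h
  obtain ⟨x, hx, hx1⟩ := S.sink_ne 1 h
  obtain ⟨n, hn, hx'⟩ := hx
  apply hx1
  have h1 : ∀ g : G, phi 1 g = 1 := fun g => by simp [phi]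
  obtain ⟨m, rfl⟩ : ∃ m, n = m + 1 := ⟨n - 1, by omega⟩
  have e : (phi (1 : G))^[m + 1] x = x := hx'
  rw [Function.iterate_succ_apply'] at e
  exact e.symm.trans (h1 _)

/-- An element of a nilpotent overgroup moves an intersection. -/
theorem exists_moving_norm {H L : Subgroup G} (hH : Group.IsNilpotent ↥H) (hne : ¬ H ≤ L) :
    ∃ g ∈ H, g ∉ L ∧ (H ⊓ L).map (MulAut.conj g).toMonoidHom = H ⊓ L := by
  haveI := hH
  have hlt : (H ⊓ L).subgroupOf H < ⊤ := lt_top_iff_ne_top.mpr fun e =>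
    hne fun w hw =>
      (mem_subgroupOf.mp (show (⟨w, hw⟩ : ↥H) ∈ (H ⊓ L).subgroupOf H from e ▸ mem_top _)).2
  obtain ⟨⟨g, hgH⟩, hgN, hgn⟩ :=
    SetLike.exists_of_lt (Group.normalizerCondition_of_isNilpotent _ hlt)
  refine ⟨g, hgH, fun hgL => hgn (mem_subgroupOf.mpr ⟨hgH, hgL⟩), ?_⟩
  ext x
  rw [mem_map_conj]
  constructor
  · intro hx
    have hxH : x ∈ H := by
      have := mul_mem (mul_mem hgH hx.1) (inv_mem hgH)
      rwa [show g * (g⁻¹ * x * g) * g⁻¹ = x by group] at this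
    have := (mem_normalizer_iff.mp hgN ⟨_, hx.1⟩).mp (mem_subgroupOf.mpr hx)
    rw [mem_subgroupOf] at this
    simpa [mul_assoc] using this
  · intro hx
    refine mem_subgroupOf.mp ((mem_normalizer_iff.mp hgN
      ⟨g⁻¹ * x * g, mul_mem (mul_mem (inv_mem hgH) hx.1) hgH⟩).mpr ?_)
    rw [mem_subgroupOf]
    simpa [mul_assoc] using hx

/-- Some element of `Φ \ Y` normalises the subgroup generated by the intersection. -/
theorem exists_norm_elt {a : Subgroup G} {Φ Y : Set G} (h : Φ ∈ Psi S a) (hY : ¬ Φ ⊆ Y) :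
    ∃ d ∈ Φ, d ∉ Y ∧ d ∈ normalizer (closure (Φ ∩ Y) : Set G) := by
  by_contra hnone
  push Not at hnone
  set I := closure (Φ ∩ Y) with hI
  set J := closure Φ with hJ
  set N := normalizer (I : Set G)
  have hIJ : I ≤ J := closure_mono Set.inter_subset_left
  have hNX : ∀ d ∈ Φ, d ∈ N → d ∈ Y := fun d hd hdN => by
    by_contra hdY
    exact hnone d hd hdY hdN
  by_cases htop : J ≤ N
  · exact hY fun d hd => hNX d hd (htop (subset_closure hd))
  · obtain ⟨g, hgJ, hgN, hgfix⟩ := exists_moving_norm h.2.1.2 htop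
    apply hgN
    refine mem_normalizer_of_map_conj_eq ?_
    rw [hI, MonoidHom.map_closure]
    congr 1
    have hfix : ∀ w, w ∈ J ⊓ N ↔ g⁻¹ * w * g ∈ J ⊓ N := by
      intro w
      rw [← mem_map_conj, hgfix]
    ext w
    constructor
    · rintro ⟨v, hv, rfl⟩
      show g * v * g⁻¹ ∈ Φ ∩ Y
      have h1 : g * v * g⁻¹ ∈ Φ := psi_conj_closed S h hgJ hv.1
      refine ⟨h1, hNX _ h1 ((hfix _).mpr ?_).2⟩
      rw [show g⁻¹ * (g * v * g⁻¹) * g = v by group]
      exact ⟨hIJ (subset_closure hv), le_normalizer (subset_closure hv)⟩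
    · intro hw
      refine ⟨g⁻¹ * w * g, ?_, show g * (g⁻¹ * w * g) * g⁻¹ = w by group⟩
      have h1 : g⁻¹ * w * g ∈ Φ := by
        simpa using psi_conj_closed S h (inv_mem hgJ) hw.1
      exact ⟨h1, hNX _ h1 ((hfix w).mp
        ⟨hIJ (subset_closure hw), le_normalizer (subset_closure hw)⟩).2⟩

include hForeign hJoin hPair in
/-- Some trace has two centres. -/
theorem exists_shared (hMut : S.Mutual) :
    ∃ a c : Subgroup G, IsCell S a ∧ IsCell S c ∧ a ≠ c ∧ ∃ Φ, Φ ∈ Psi S a ∧ Φ ∈ Psi S c := by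
  by_contra hcon
  have uniq : ∀ (a c : Subgroup G) (Φ : Set G), IsCell S a → IsCell S c →
      Φ ∈ Psi S a → Φ ∈ Psi S c → a = c := by
    intro a c Φ ha hc h1 h2
    by_contra hne
    exact hcon ⟨a, c, ha, hc, hne, Φ, h1, h2⟩
  -- a trace does not extend to a nilpotent set leaving the cell
  have leave : ∀ (a : Subgroup G) (Φ X : Set G), IsCell S a → Φ ∈ Psi S a → Nil S X → Φ ⊆ X →
      X ⊆ a := by
    intro a Φ X ha hΦ hX hsub
    by_contra hXa
    obtain ⟨g, -, hga, hfix⟩ := exists_moving_norm hX.2 (L := a)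
      (fun h => hXa fun x hx => h (subset_closure hx))
    have hcap : Φ = {x | x ∈ closure X ⊓ a ∧ x ∈ S.K} := by
      refine Set.Subset.antisymm (fun x hx => ⟨⟨subset_closure (hsub hx), hΦ.1 hx⟩, hΦ.2.1.1 hx⟩)
        (hΦ.2.2 _ (fun x hx => hx.1.2) ⟨fun x hx => hx.2, ?_⟩
          fun x hx => ⟨⟨subset_closure (hsub hx), hΦ.1 hx⟩, hΦ.2.1.1 hx⟩)
      exact nilp_mono ((closure_le _).mpr fun x hx => hx.1.1) hX.2
    have hgΦ : cj g Φ = Φ := by
      rw [hcap]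
      ext x
      simp only [mem_cj, Set.mem_ofPred_eq, conj_K_iff S, ← mem_map_conj, hfix]
    exact hga (cell_normalizer S ha
      (uniq _ _ Φ (isCell_conj S ha g) ha (hgΦ ▸ psi_conj S hΦ g) hΦ))
  have notsub : ∀ (a c : Subgroup G) (Φ : Set G), IsCell S a → IsCell S c → a ≠ c →
      Φ ∈ Psi S c → ¬ Φ ⊆ a := by
    intro a c Φ ha hc hne hΦ hsub
    obtain ⟨Φ', hΦ', h1⟩ := exists_psi S hsub hΦ.2.1
    have h2 := leave c Φ Φ' hc hΦ hΦ'.2.1 h1
    exact hne (uniq a c Φ' ha hc hΦ' ((Set.Subset.antisymm (hΦ.2.2 _ h2 hΦ'.2.1 h1) h1) ▸ hΦ))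
  -- a pair with maximal intersection
  obtain ⟨x, hx, f, hf, hne, hxf, hfx⟩ := hMut
  have hxfn : Nil S ({x, f} : Set G) := by
    refine ⟨Set.insert_subset hx (Set.singleton_subset_iff.mpr hf), hPair x hx f hf hne fun e => ?_⟩
    refine (S.coatom x hx).1 (top_unique (e ▸ (closure_le _).mpr ?_))
    exact Set.insert_subset (S.mem x hx) (Set.singleton_subset_iff.mpr hfx)
  obtain ⟨Φx, hΦx, hsx⟩ := exists_psi S (a := S.M x)
    (Set.insert_subset (S.mem x hx) (Set.singleton_subset_iff.mpr hfx)) hxfn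
  obtain ⟨Φf, hΦf, hsf⟩ := exists_psi S (a := S.M f)
    (Set.insert_subset hxf (Set.singleton_subset_iff.mpr (S.mem f hf))) hxfn
  let T : Set (Subgroup G × Set G × Set G) :=
    {p | IsCell S p.1 ∧ p.2.1 ∈ Psi S p.1 ∧ Nil S p.2.2 ∧ ¬ p.2.2 ⊆ p.1}
  have hstart : (S.M x, Φx, Φf) ∈ T :=
    ⟨⟨x, hx, rfl⟩, hΦx, hΦf.2.1, notsub _ _ Φf ⟨x, hx, rfl⟩ ⟨f, hf, rfl⟩ hne hΦf⟩
  obtain ⟨⟨a, Φ, X₀⟩, ⟨ha, hΦ, hX₀, hX₀a⟩, hmax⟩ :=
    T.toFinite.exists_maximalFor (fun p => (p.2.1 ∩ p.2.2).ncard) _ ⟨_, hstart⟩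
  simp only at ha hΦ hX₀ hX₀a
  have hbound : ∀ a' Φ' X', IsCell S a' → Φ' ∈ Psi S a' → Nil S X' → ¬ X' ⊆ a' →
      (Φ' ∩ X').ncard ≤ (Φ ∩ X₀).ncard := by
    intro a' Φ' X' h1 h2 h3 h4
    by_contra hlt
    have := hmax (j := (a', Φ', X')) ⟨h1, h2, h3, h4⟩ (by simp only; omega)
    simp only at this
    omega
  -- enlarge `X₀` to a maximal nilpotent set
  obtain ⟨X, hX, hX₀X⟩ := exists_psi S (a := ⊤) (fun x _ => mem_top x) hX₀
  have hXn : Nil S X := hX.2.1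
  have hXa : ¬ X ⊆ a := fun h => hX₀a (hX₀X.trans h)
  have hcount : (Φ ∩ X).ncard = (Φ ∩ X₀).ncard :=
    le_antisymm (hbound a Φ X ha hΦ hXn hXa)
      (Set.ncard_le_ncard (Set.inter_subset_inter_right _ hX₀X) (Set.toFinite _))
  have hne' : (Φ ∩ X).Nonempty := by
    rw [← Set.ncard_pos (Set.toFinite _), hcount]
    have h1 := hbound _ Φx Φf ⟨x, hx, rfl⟩ hΦx hΦf.2.1 hstart.2.2.2
    have h2 : 0 < (Φx ∩ Φf).ncard :=
      (Set.ncard_pos (Set.toFinite _)).mpr ⟨x, hsx (Set.mem_insert _ _), hsf (Set.mem_insert _ _)⟩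
    omega
  set C := Φ ∩ X with hC
  have hXaC : {w | w ∈ X ∧ w ∈ a} = C := by
    have hsub : C ⊆ {w | w ∈ X ∧ w ∈ a} := fun w hw => ⟨hw.2, hΦ.1 hw.1⟩
    obtain ⟨Φ₁, hΦ₁, h1⟩ := exists_psi S (a := a) (X := {w | w ∈ X ∧ w ∈ a}) (fun w hw => hw.2)
      ⟨fun w hw => hXn.1 hw.1, nilp_mono (closure_mono fun w hw => hw.1) hXn.2⟩
    refine (Set.eq_of_subset_of_ncard_le hsub ?_ (Set.toFinite _)).symm
    refine le_trans (Set.ncard_le_ncard (fun w hw => (⟨h1 hw, hw.1⟩ : w ∈ Φ₁ ∩ X)) (Set.toFinite _)) ?_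
    rw [hcount]
    exact hbound a Φ₁ X ha hΦ₁ hXn hXa
  obtain ⟨g, -, hga, hfix⟩ := exists_moving_norm hXn.2 (L := a)
    (fun h => hXa fun w hw => h (subset_closure hw))
  have hXK : ∀ w ∈ closure X, w ∈ S.K → w ∈ X := fun w hw hK => psi_closed S hX hw hK
  have hgC : cj g C = C := by
    have hC' : C = {w | w ∈ closure X ⊓ a ∧ w ∈ S.K} := by
      rw [← hXaC]
      ext w
      exact ⟨fun hw => ⟨⟨subset_closure hw.1, hw.2⟩, hXn.1 hw.1⟩,
        fun hw => ⟨hXK w hw.1.1 hw.2, hw.1.2⟩⟩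
    rw [hC']
    ext w
    simp only [mem_cj, Set.mem_ofPred_eq, conj_K_iff S, ← mem_map_conj, hfix]
  set c := a.map (MulAut.conj g).toMonoidHom with hc
  set Φ₂ := cj g Φ with hΦ₂def
  have hcc : IsCell S c := isCell_conj S ha g
  have hac : a ≠ c := fun e => hga (cell_normalizer S ha e.symm)
  have hΦ₂ : Φ₂ ∈ Psi S c := psi_conj S hΦ g
  have hΦ₂a : ¬ Φ₂ ⊆ a := notsub a c Φ₂ ha hcc hac hΦ₂
  have hcap : Φ ∩ Φ₂ = C := by
    have hsub : C ⊆ Φ ∩ Φ₂ := by
      intro w hw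
      refine ⟨hw.1, ?_⟩
      rw [← hgC] at hw
      exact mem_cj.mpr (mem_cj.mp hw).1
    exact (Set.eq_of_subset_of_ncard_le hsub (hcount ▸ hbound a Φ Φ₂ ha hΦ hΦ₂.2.1 hΦ₂a)
      (Set.toFinite _)).symm
  have hn2 : ¬ Φ₂ ⊆ Φ := fun h => hΦ₂a (h.trans hΦ.1)
  have hn1 : ¬ Φ ⊆ Φ₂ := fun h => notsub c a Φ hcc ha hac.symm hΦ (h.trans hΦ₂.1)
  obtain ⟨d₁, hd₁, hd₁', hd₁N⟩ := exists_norm_elt S hΦ hn1
  obtain ⟨d₂, hd₂, hd₂', hd₂N⟩ := exists_norm_elt S hΦ₂ hn2
  rw [Set.inter_comm] at hd₂N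
  rw [hcap] at hd₁N hd₂N
  set I := closure C with hI
  have hIne : normalizer (I : Set G) ≠ ⊤ := by
    intro e
    haveI : I.Normal := normalizer_eq_top_iff.mp e
    obtain ⟨d, hd, rfl⟩ := ha
    have hbot := S.core d hd I inferInstance ((closure_le _).mpr fun w hw => hΦ.1 hw.1)
    obtain ⟨w, hw⟩ := hne'
    have hw1 : w = 1 := mem_bot.mp (hbot ▸ subset_closure hw)
    exact one_notMem_K S (hw1 ▸ hΦ.2.1.1 hw.1)
  have hC1 : C ⊆ Φ := Set.inter_subset_left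
  have hC2 : C ⊆ Φ₂ := hcap ▸ Set.inter_subset_right
  have hIn : Group.IsNilpotent ↥I := nilp_mono (closure_mono hC1) hΦ.2.1.2
  have hgrow : ∀ (a' : Subgroup G) (Φ' X' : Set G) (e : G), IsCell S a' → Φ' ∈ Psi S a' → Nil S X' →
      ¬ X' ⊆ a' → C ⊆ Φ' → C ⊆ X' → e ∈ Φ' → e ∈ X' → e ∉ C → False := by
    intro a' Φ' X' e h1 h2 h3 h4 h5 h6 h7 h8 h9
    have h10 := hbound a' Φ' X' h1 h2 h3 h4
    have h11 := Set.ncard_le_ncard (s := insert e C) (t := Φ' ∩ X')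
      (Set.insert_subset ⟨h7, h8⟩ (Set.subset_inter h5 h6)) (Set.toFinite _)
    rw [Set.ncard_insert_of_notMem h9, hcount] at h11
    omega
  have hnotC₁ : ∀ u ∈ Φ, u ∉ Φ₂ → u ∉ C := fun u _ hu' h => hu' (hC2 h)
  have hnotC₂ : ∀ v, v ∉ Φ → v ∉ C := fun v hv' h => hv' (hC1 h)
  have hpair : ∀ u v : G, u ∈ Φ → u ∉ Φ₂ → u ∈ normalizer (I : Set G) → v ∈ Φ₂ → v ∉ Φ →
      v ∈ normalizer (I : Set G) → S.M u = S.M v := by
    intro u v hu hu' huN hv hv' hvN
    by_contra hne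
    have huK := hΦ.2.1.1 hu
    have hvK := hΦ₂.2.1.1 hv
    have hJN : ({u, v} : Set G) ⊆ (normalizer (I : Set G) : Set G) :=
      Set.insert_subset huN (Set.singleton_subset_iff.mpr hvN)
    have hJ : Group.IsNilpotent ↥(closure ({u, v} : Set G)) :=
      hPair u huK v hvK hne fun e => hIne (top_unique (e ▸ (closure_le _).mpr hJN))
    have hN : Group.IsNilpotent ↥(I ⊔ closure ({u, v} : Set G)) := by
      refine nilp_sup hIn hJ hJN ?_
      rintro w (rfl | rfl)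
      · exact nilp_mono (sup_le (closure_mono hC1) (zpowers_le.mpr (subset_closure hu))) hΦ.2.1.2
      · exact nilp_mono (sup_le (closure_mono hC2) (zpowers_le.mpr (subset_closure hv))) hΦ₂.2.1.2
    set Φ₀ : Set G := insert u (insert v C) with hΦ₀
    have h0 : Nil S Φ₀ :=
      ⟨Set.insert_subset huK (Set.insert_subset hvK fun w hw => hΦ.2.1.1 hw.1),
        nilp_mono ((closure_le _).mpr (Set.insert_subset
          (mem_sup_right (subset_closure (Set.mem_insert _ _)))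
          (Set.insert_subset (mem_sup_right (subset_closure (Set.mem_insert_of_mem u (Set.mem_singleton v))))
            fun w hw => mem_sup_left (subset_closure hw)))) hN⟩
    by_cases h0a : Φ₀ ⊆ a
    · obtain ⟨Φ₃, hΦ₃, h03⟩ := exists_psi S h0a h0
      exact hgrow a Φ₃ Φ₂ v ha hΦ₃ hΦ₂.2.1 hΦ₂a
        (fun w hw => h03 (Set.mem_insert_of_mem _ (Set.mem_insert_of_mem _ hw))) hC2
        (h03 (Set.mem_insert_of_mem _ (Set.mem_insert _ _))) hv (hnotC₂ v hv')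
    · exact hgrow a Φ Φ₀ u ha hΦ h0 h0a hC1
        (fun w hw => Set.mem_insert_of_mem _ (Set.mem_insert_of_mem _ hw)) hu
        (Set.mem_insert _ _) (hnotC₁ u hu hu')
  have hd₁K := hΦ.2.1.1 hd₁
  have hd₂K := hΦ₂.2.1.1 hd₂
  set a₀ := S.M d₁ with ha₀
  have ha₂ : S.M d₂ = a₀ := (hpair d₁ d₂ hd₁ hd₁' hd₁N hd₂ hd₂' hd₂N).symm
  have hCa : C ⊆ a₀ := by
    intro i hi
    have hiN : i ∈ normalizer (I : Set G) := le_normalizer (subset_closure hi)
    have hiJ : i ∈ closure Φ := subset_closure (hC1 hi)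
    have hiJ₂ : i ∈ closure Φ₂ := subset_closure (hC2 hi)
    have h2 : i * d₁ * i⁻¹ ∉ Φ₂ := fun h => hd₁' (by
      have := psi_conj_closed S hΦ₂ (inv_mem hiJ₂) h
      rwa [show i⁻¹ * (i * d₁ * i⁻¹) * i⁻¹⁻¹ = d₁ by group] at this)
    have h3 := hpair _ d₂ (psi_conj_closed S hΦ hiJ hd₁) h2
      (mul_mem (mul_mem hiN hd₁N) (inv_mem hiN)) hd₂ hd₂' hd₂N
    rw [ha₂, S.conj_M d₁ hd₁K i] at h3
    exact cell_normalizer S ⟨d₁, hd₁K, rfl⟩ h3
  have hcell₀ : IsCell S a₀ := ⟨d₁, hd₁K, rfl⟩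
  have hsub1 : insert d₁ C ⊆ Φ := Set.insert_subset hd₁ hC1
  have hnil1 : Nil S (insert d₁ C) :=
    ⟨hsub1.trans hΦ.2.1.1, nilp_mono (closure_mono hsub1) hΦ.2.1.2⟩
  obtain ⟨Φ₃, hΦ₃, h13⟩ := exists_psi S (a := a₀) (Set.insert_subset (S.mem d₁ hd₁K) hCa) hnil1
  by_cases h0 : a₀ = a
  · have hsub2 : insert d₂ C ⊆ Φ₂ := Set.insert_subset hd₂ hC2
    obtain ⟨Φ₄, hΦ₄, h24⟩ := exists_psi S (a := a₀) (X := insert d₂ C)
      (Set.insert_subset (ha₂ ▸ S.mem d₂ hd₂K) hCa)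
      ⟨hsub2.trans hΦ₂.2.1.1, nilp_mono (closure_mono hsub2) hΦ₂.2.1.2⟩
    exact hgrow a₀ Φ₄ Φ₂ d₂ hcell₀ hΦ₄ hΦ₂.2.1 (h0.symm ▸ hΦ₂a)
      (fun w hw => h24 (Set.mem_insert_of_mem _ hw)) hC2 (h24 (Set.mem_insert _ _)) hd₂
      (hnotC₂ d₂ hd₂')
  · exact hgrow a Φ Φ₃ d₁ ha hΦ hΦ₃.2.1 (notsub a a₀ Φ₃ ha hcell₀ (Ne.symm h0) hΦ₃) hC1
      (fun w hw => h13 (Set.mem_insert_of_mem _ hw)) hd₁ (h13 (Set.mem_insert _ _))
      (hnotC₁ d₁ hd₁ hd₁')

include hForeign hSelf hJoin hPair in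
/-- Every cell has, beside each shared trace, another one. -/
theorem other_shared (hMut : S.Mutual) {b : Subgroup G} (hb : IsCell S b) (Φ : Set G) :
    ∃ Φ' c, Φ' ≠ Φ ∧ Φ' ∈ Psi S b ∧ IsCell S c ∧ c ≠ b ∧ Φ' ∈ Psi S c := by
  obtain ⟨a₁, a₂, ha₁, ha₂, hne, Φ₀, h1, h2⟩ := exists_shared S hForeign hJoin hPair hMut
  obtain ⟨g, hg⟩ := cell_trans S ha₁ hb
  have hX : cj g Φ₀ ∈ Psi S b := hg ▸ psi_conj S h1 g
  have hc2 : a₂.map (MulAut.conj g).toMonoidHom ≠ b := fun e =>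
    hne (map_conj_inj (hg.trans e.symm))
  by_cases hXΦ : cj g Φ₀ = Φ
  swap
  · exact ⟨_, _, hXΦ, hX, isCell_conj S ha₂ g, hc2, psi_conj S h2 g⟩
  by_contra hcon
  -- then the shared trace is invariant under its cell
  have hinv : ∀ k ∈ b, cj k Φ = Φ := by
    intro k hk
    by_contra hne'
    have hkb := map_conj_eq_of_mem hk
    refine hcon ⟨cj k Φ, (a₂.map (MulAut.conj g).toMonoidHom).map (MulAut.conj k).toMonoidHom,
      hne', ?_, isCell_conj S (isCell_conj S ha₂ g) k, fun e => hc2 (map_conj_inj (e.trans hkb.symm)),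
      ?_⟩
    · rw [← hkb, ← hXΦ]
      exact psi_conj S hX k
    · rw [← hXΦ]
      exact psi_conj S (psi_conj S h2 g) k
  rw [hXΦ] at hX
  obtain ⟨d, hd, rfl⟩ := hb
  set F := fitOf (S.M d) with hF
  -- so it lies in the Fitting subgroup
  have hle : closure Φ ≤ F := by
    have hn : S.M d ≤ normalizer (closure Φ : Set G) := fun k hk => by
      refine mem_normalizer_of_map_conj_eq ?_
      rw [← closure_cj, hinv k hk]
    haveI := normal_subgroupOf_of_le_normalizer hn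
    haveI := hX.2.1.2
    have hsub : closure Φ ≤ S.M d := (closure_le _).mpr hX.1
    have : (closure Φ).subgroupOf (S.M d) ≤ fittingSubgroup ↥(S.M d) :=
      le_fittingSubgroup inferInstance (Group.nilpotent_of_mulEquiv (subgroupOfEquivOfLe hsub).symm)
    intro w hw
    exact ⟨⟨w, hsub hw⟩, this (mem_subgroupOf.mpr hw), rfl⟩
  have hdΦ : d ∈ Φ := by
    refine hX.2.2 (insert d Φ) (Set.insert_subset (S.mem d hd) hX.1)
      ⟨Set.insert_subset hd hX.2.1.1, ?_⟩ (Set.subset_insert _ _) (Set.mem_insert _ _)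
    exact nilp_mono ((closure_le _).mpr (Set.insert_subset (mem_sup_right (mem_zpowers d))
      fun w hw => mem_sup_left (hle (subset_closure hw)))) (hJoin d hd)
  exact hSelf d hd (hle (subset_closure hdΦ))

/-- An edge of the tree: a trace with two centres. -/
structure Edge where
  src : Subgroup G
  tgt : Subgroup G
  tr : Set G
  src_cell : IsCell S src
  tgt_cell : IsCell S tgt
  src_psi : tr ∈ Psi S src
  tgt_psi : tr ∈ Psi S tgt
  ne : tgt ≠ src

include hForeign hSelf hJoin hPair in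
theorem no_tree (hMut : S.Mutual) : False := by
  obtain ⟨d₀, hd₀⟩ := S.nonempty
  obtain ⟨Φ₀, b, -, hΦ₀, hb, hbne, hbΦ⟩ :=
    other_shared S hForeign hSelf hJoin hPair hMut (b := S.M d₀) ⟨d₀, hd₀, rfl⟩ ∅
  have step : ∀ e : Edge S, ∃ e' : Edge S, e'.src = e.tgt ∧ e'.tr ≠ e.tr := by
    intro e
    obtain ⟨Φ, c, hne, hΦ, hc, hcne, hcΦ⟩ :=
      other_shared S hForeign hSelf hJoin hPair hMut e.tgt_cell e.tr
    exact ⟨⟨e.tgt, c, Φ, e.tgt_cell, hc, hΦ, hcΦ, hcne⟩, rfl, hne⟩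
  choose nxt hsrc hne using step
  let w : ℕ → Edge S := fun n => Nat.rec ⟨S.M d₀, b, Φ₀, ⟨d₀, hd₀, rfl⟩, hb, hΦ₀, hbΦ, hbne⟩
    (fun _ e => nxt e) n
  have hsucc : ∀ n, (w (n + 1)).src = (w n).tgt := fun n => hsrc (w n)
  have htr : ∀ n, (w (n + 1)).tr ≠ (w n).tr := fun n => hne (w n)
  let A : ℕ → Subgroup G := fun n => (w n).src
  have hAne : ∀ n, A (n + 1) ≠ A n := fun n => by
    show (w (n + 1)).src ≠ (w n).src
    rw [hsucc n]
    exact (w n).ne
  have hex : ∃ m, 0 < m ∧ ∃ i, A i = A (i + m) := by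
    obtain ⟨p, q, hpq, he⟩ := Finite.exists_ne_map_eq_of_infinite A
    rcases lt_or_gt_of_ne hpq with h | h
    · exact ⟨q - p, by omega, p, by rw [Nat.add_sub_cancel' h.le]; exact he⟩
    · exact ⟨p - q, by omega, q, by rw [Nat.add_sub_cancel' h.le]; exact he.symm⟩
  classical
  obtain ⟨hm0, i, hi⟩ := Nat.find_spec hex
  set m := Nat.find hex with hm
  have hdist : ∀ p q, i ≤ p → p < q → q ≤ i + m → A p = A q → p = i ∧ q = i + m := by
    intro p q h1 h2 h3 h4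
    by_contra hcon
    refine Nat.find_min hex (m := q - p) (by omega) ⟨by omega, p, ?_⟩
    rw [Nat.add_sub_cancel' h2.le]
    exact h4
  have hm2 : 2 ≤ m := by
    by_contra hlt
    have h1 : m = 1 := by omega
    rw [h1] at hi
    exact hAne i hi.symm
  have htgt : ∀ n, (w n).tr ∈ Psi S (A (n + 1)) := fun n => by
    show (w n).tr ∈ Psi S (w (n + 1)).src
    rw [hsucc n]
    exact (w n).tgt_psi
  have hconst : ∀ (y : Subgroup G) (p q : ℕ), p ≤ q → (∀ k, p < k → k ≤ q → A k ≠ y) →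
      (w p).tr ∩ cell S y = (w q).tr ∩ cell S y := by
    intro y p q hpq
    induction q, hpq using Nat.le_induction with
    | base => intro _; rfl
    | succ q hpq ih =>
      intro hk
      rw [ih fun k h1 h2 => hk k h1 (by omega)]
      have hne' : y ≠ A (q + 1) := fun e => hk (q + 1) (by omega) le_rfl e.symm
      rw [psi_inter_cell S hForeign hJoin (w (q + 1)).src_cell hne' (htgt q),
        psi_inter_cell S hForeign hJoin (w (q + 1)).src_cell hne' (w (q + 1)).src_psi]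
  have hlast : (w (i + m - 1)).tr ∈ Psi S (A i) := by
    rw [hi]
    have := htgt (i + m - 1)
    rwa [show i + m - 1 + 1 = i + m by omega] at this
  have h1 : (w i).tr = (w (i + m - 1)).tr := by
    refine psi_eq_of_inter_cell S hForeign hJoin (w i).src_cell (w i).src_psi hlast
      (hconst _ i _ (by omega) ?_)
    intro k hk1 hk2 he
    exact absurd (hdist i k le_rfl hk1 (by omega) he.symm).2 (by omega)
  rcases eq_or_lt_of_le hm2 with h2 | h3
  · apply htr i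
    rw [h1, show i + m - 1 = i + 1 by omega]
  · apply htr i
    rw [psi_eq_of_inter_cell S hForeign hJoin (w (i + 1)).src_cell (w (i + 1)).src_psi
      (h1 ▸ htgt i : (w (i + m - 1)).tr ∈ Psi S (A (i + 1))) (hconst _ (i + 1) _ (by omega) ?_), ← h1]
    intro k hk1 hk2 he
    exact absurd (hdist (i + 1) k (by omega) hk1 (by omega) he.symm).1 (by omega)

/-- No system with nilpotent pairs. -/
theorem tree : TreeStmt.{u} := fun S hMut hF hS hJ hP => no_tree S hF hS hJ hP hMut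

end H70.Sink
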